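import Cfsg.Agent.Lib.Spor.Cos.J3.Order
import Cfsg.Agent.Lib.Spor.Cos.J3.SaPart
import Cfsg.Agent.Lib.Spor.Cos.J3.Sa0
import Cfsg.Agent.Lib.Spor.Cos.J3.Sa1
import Cfsg.Agent.Lib.Spor.Cos.J3.Sa2
import Cfsg.Agent.Lib.Spor.Cos.J3.Sa3
import Cfsg.Agent.Lib.Spor.Cos.J3.Sa4
import Cfsg.Agent.Lib.Spor.Cos.J3.Sa5
import Cfsg.Agent.Lib.Spor.Cos.J3.Sa6

/-! Data and checks for a presented sporadic group. -/

set_option autoImplicit false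
set_option maxRecDepth 100000
set_option maxHeartbeats 4000000

namespace Cfsg.Agent.Spor.Cos.J3

theorem saList_ok : ∀ o ∈ saList, o.1.Ok actA lv1W o.2 ∧ ∀ j < o.1.m, o.1.chkClosed actA lv1W j = true := by
  intro o ho
  simp only [saList, List.mem_cons, List.not_mem_nil, or_false] at ho
  rcases ho with rfl | rfl | rfl | rfl | rfl | rfl | rfl
  · exact ⟨sa0_ok, sa0_closed⟩
  · exact ⟨sa1_ok, sa1_closed⟩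
  · exact ⟨sa2_ok, sa2_closed⟩
  · exact ⟨sa3_ok, sa3_closed⟩
  · exact ⟨sa4_ok, sa4_closed⟩
  · exact ⟨sa5_ok, sa5_closed⟩
  · exact ⟨sa6_ok, sa6_closed⟩

theorem card_stab_base : Nat.card (stab piA baseA) = 8160 := card_stab trA card_eq

theorem isSimple : IsSimpleGroup P := by
  have := finite
  refine isSimpleGroup_of (p := 19) (W := [[2, 3, 0, 0, 3, 3, 3, 3, 2, 0, 1, 0, 1, 3, 1, 0, 2, 0, 0, 0, 1, 0, 2, 0, 0, 2, 3, 3, 3, 3, 0, 0, 3, 2], [2, 3, 0, 0, 3, 3, 3, 3, 2, 0, 1, 0, 1, 3, 1, 0, 2, 0, 0, 0, 1, 0, 2, 0, 0, 2, 3, 3, 3, 3, 0, 0, 3, 2], [1, 2, 1, 2, 1, 0, 1, 0, 1, 3, 1, 0, 2, 0, 0, 0, 1, 0, 2, 0, 0, 0, 1, 0, 1, 3, 1, 0, 2, 0, 0, 0, 1, 0, 2, 0, 0, 0, 1, 0, 1, 3, 1, 0, 2, 0, 0, 0, 1, 0, 2, 0, 0, 1, 2, 1, 2, 1], [0, 2, 0, 1, 0, 1, 3, 1, 0, 2, 0, 0, 0, 1, 0, 2, 0, 0, 0, 1, 0, 1, 3, 1, 0, 2, 0, 0, 0,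 1, 0, 2, 0, 0, 0, 1, 0, 1, 3, 1, 0, 2, 0, 0, 0, 1, 0, 2, 0, 0, 2, 0]]) homA g_gen det trA (by decide +kernel) stabA saList_ok
    sa_partition (by decide +kernel) (by norm_num) ?_ (by decide +kernel)
  rw [card_stab_base]
  decide +kernel

end Cfsg.Agent.Spor.Cos.J3
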