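import Cfsg.Agent.Lib.Spor.Cos.Act

/-! Data and checks for a presented sporadic group. -/

set_option autoImplicit false
set_option maxRecDepth 100000
set_option maxHeartbeats 4000000

namespace Cfsg.Agent.Spor.Cos.J3

/-- The relations as words. -/
def words : List (List ℕ) := [[0, 1, 0, 1, 0, 1, 0, 1, 0, 1, 0, 1, 0, 1, 0, 1, 0, 1, 0, 1, 0, 1, 0, 1, 0, 1, 0, 1, 0, 1, 0, 1, 0, 1], [0, 2, 0, 2, 0, 2, 0, 2], [0, 3, 0, 3, 0, 3, 0, 3, 0, 3, 0, 3, 0, 3, 0, 3], [1, 2, 1, 2, 1, 2, 1, 2], [1, 3, 1, 3, 1, 3, 1, 3, 1, 3, 1, 3, 1, 3, 1, 3], [2, 3, 2, 3, 2, 3, 2, 3, 2, 3, 2, 3, 2, 3, 2, 3], [0, 1, 2, 0, 1, 2, 0, 1, 2, 0, 1, 2], [0, 1, 0, 1, 0, 1, 2, 1, 0, 1, 0, 1, 0, 1, 2, 1], [0, 1, 2, 0, 1, 2, 0, 1, 2,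 0, 2, 1, 2, 1, 2, 1], [0, 1, 2, 1, 0, 2, 0, 1, 2, 1, 0, 2, 0, 1, 2, 1, 0, 2], [0, 1, 0, 2, 0, 2, 1, 0, 2, 0, 2, 1, 0, 2, 0, 2, 1, 0, 2, 1, 2], [1, 3, 2, 3], [3, 0, 2, 1, 3, 0, 3, 1, 2, 0, 3, 1, 2, 0, 2, 1], [3, 0, 3, 0, 2, 1, 3, 0, 3, 0, 3, 2, 1, 0, 1, 2, 0, 2, 1, 2, 1], [3, 0, 1, 2, 0, 3, 0, 3, 0, 2, 1, 0, 3, 0, 2, 1, 0, 3, 0, 1, 2, 0], [3, 0, 1, 2, 1, 0, 2, 1, 0, 1, 0, 3, 1, 2, 0, 1, 2, 1, 0, 2, 1, 0, 1, 0], [3, 0, 3, 0, 3, 0, 2, 0, 3, 0, 2, 0, 3, 0, 3, 0, 3, 1, 0, 2, 1, 2, 0, 1], [3, 0, 1, 0, 2, 3, 0, 1, 0, 2, 3, 0, 1, 0, 3, 1, 0, 1, 0, 3, 1, 0, 1, 0, 2]]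

end Cfsg.Agent.Spor.Cos.J3
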