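import Cfsg.Agent.Lib.Spor.Cos.J3.Pres
import Cfsg.Agent.Lib.Spor.Cos.J3.ActAInv
import Cfsg.Agent.Lib.Spor.Cos.J3.ActARel

/-! Data and checks for a presented sporadic group. -/

set_option autoImplicit false
set_option maxRecDepth 100000
set_option maxHeartbeats 4000000

namespace Cfsg.Agent.Spor.Cos.J3

theorem exists_homA : ∃ π : P →* Equiv.Perm (Fin actA.N), ∀ s, π (g s) = actA.perm s :=
  pres.exists_hom actA.perm actA.perm_sq (actA.ev_rels actA_inv (by decide +kernel) actA_rels) actA.perm_out

/-- The action on 6156 points. -/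
noncomputable def piA : P →* Equiv.Perm (Fin actA.N) := exists_homA.choose

theorem homA : actA.Hom g piA := ⟨actA_inv, exists_homA.choose_spec⟩

end Cfsg.Agent.Spor.Cos.J3
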