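import Cfsg.Agent.Lib.Spor.Cos.J3.Mat
import Cfsg.Prelude.Def_Sporadic

/-!
The order and the centre of the triple cover.
-/

set_option autoImplicit false
set_option maxRecDepth 100000

namespace Cfsg.Agent.Spor.Cos.J3

/-- The triple cover over the computable field. -/
noncomputable abbrev U9 : Subgroup L9 := Cfsg.Spor.threeJ3 F4 F4.w

/-- Its map to the projective group. -/
noncomputable def fU : U9 →* Q9 := (QuotientGroup.mk' (Subgroup.center L9)).comp U9.subtype

theorem range_fU : fU.range = toQ.range := by
  rw [fU, MonoidHom.range_comp, Subgroup.range_subtype, MonoidHom.range_eq_map toQ, ← g_gen,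
    show U9 = K9 from threeJ3_eq, MonoidHom.map_closure, MonoidHom.map_closure]
  congr 1
  ext y
  simp only [Set.mem_image, Set.mem_setOf_eq]
  constructor
  · rintro ⟨_, ⟨s, hs, rfl⟩, rfl⟩
    exact ⟨g s, ⟨s, hs, rfl⟩, toQ_g s⟩
  · rintro ⟨_, ⟨s, hs, rfl⟩, rfl⟩
    exact ⟨xg s, ⟨s, hs, rfl⟩, (toQ_g s).symm⟩

/-- The presented group as the image of the cover. -/
noncomputable def imageEquiv : P ≃* fU.range :=
  (MonoidHom.ofInjective toQ_injective).trans (MulEquiv.subgroupCongr range_fU.symm)

theorem center_le_U9 : Subgroup.center L9 ≤ U9 := center_le_K9.trans threeJ3_eq.ge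

theorem ker_fU : fU.ker = (Subgroup.center L9).subgroupOf U9 := by
  ext u
  simp [fU, Subgroup.mem_subgroupOf, QuotientGroup.eq_one_iff]

theorem card_center_L9 : Nat.card (Subgroup.center L9) = 3 := by
  rw [Matrix.GeneralLinearGroup.center_eq_range_scalar]
  have hinj : Function.Injective (Matrix.GeneralLinearGroup.scalar X9 : F4ˣ →* L9) := by
    intro a b h
    refine Units.ext ?_
    have := congrFun (congrFun (congrArg (fun u : L9 => (u : Matrix X9 X9 F4)) h) (0, 0)) (0, 0)
    simpa using this
  rw [← Nat.card_congr (MonoidHom.ofInjective hinj).toEquiv, Nat.card_units, Nat.card_eq_fintype_card,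
    F4.card_eq]

theorem card_ker : Nat.card fU.ker = 3 := by
  rw [ker_fU, Nat.card_congr (Subgroup.subgroupOfEquivOfLe center_le_U9).toEquiv, card_center_L9]

theorem card_U9 : Nat.card U9 = 150698880 := by
  have h := Subgroup.card_eq_card_quotient_mul_card_subgroup fU.ker
  rw [card_ker, Nat.card_congr (QuotientGroup.quotientKerEquivRange fU).toEquiv,
    ← Nat.card_congr imageEquiv.toEquiv, card_eq] at h
  exact h

theorem noncomm : g 0 * g 1 ≠ g 1 * g 0 := by
  intro h
  have h5 : 5 < actA.N := by decide +kernel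
  have e := congrArg (fun y => ((piA y) ⟨5, h5⟩ : ℕ)) h
  simp only [show g 0 * g 1 = ev g [0, 1] by simp [ev], show g 1 * g 0 = ev g [1, 0] by simp [ev],
    homA.apply_ev _ (show ∀ s ∈ [0, 1], s < actA.n by decide), homA.apply_ev _ (show ∀ s ∈ [1, 0], s < actA.n by decide)] at e
  revert e
  decide +kernel

theorem center_U9 : Subgroup.center U9 = fU.ker := by
  have := isSimple
  apply le_antisymm
  · intro z hz
    rw [MonoidHom.mem_ker]
    have hc : (⟨fU z, z, rfl⟩ : fU.range) ∈ Subgroup.center fU.range := by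
      rw [Subgroup.mem_center_iff]
      rintro ⟨_, u, rfl⟩
      exact Subtype.ext (by
        show fU u * fU z = fU z * fU u
        rw [← map_mul, ← map_mul, Subgroup.mem_center_iff.1 hz u])
    have hP : imageEquiv.symm ⟨fU z, z, rfl⟩ ∈ Subgroup.center P := by
      rw [Subgroup.mem_center_iff]
      intro y
      apply imageEquiv.injective
      rw [map_mul, map_mul, MulEquiv.apply_symm_apply]
      exact Subgroup.mem_center_iff.1 hc _
    have hbot : Subgroup.center P = ⊥ := by
      refine (Subgroup.Normal.eq_bot_or_eq_top inferInstance).resolve_right fun h => noncomm ?_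
      exact (Subgroup.mem_center_iff.1 (h ▸ Subgroup.mem_top (g 1)) (g 0))
    rw [hbot, Subgroup.mem_bot, MulEquiv.symm_apply_eq, map_one] at hP
    exact congrArg Subtype.val hP
  · intro u hu
    rw [ker_fU, Subgroup.mem_subgroupOf] at hu
    rw [Subgroup.mem_center_iff]
    exact fun v => Subtype.ext (Subgroup.mem_center_iff.1 hu v)

theorem card_center_U9 : Nat.card (Subgroup.center U9) = 3 := center_U9 ▸ card_ker

/-- The central quotient and the presented group. -/
noncomputable def quotEquiv : Cfsg.Spor.J3 F4 F4.w ≃* P :=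
  ((QuotientGroup.quotientMulEquivOfEq center_U9).trans (QuotientGroup.quotientKerEquivRange fU)).trans imageEquiv.symm

theorem isSimple_J3 : IsSimpleGroup (Cfsg.Spor.J3 F4 F4.w) := by
  have := isSimple
  have : Nontrivial (Cfsg.Spor.J3 F4 F4.w) := quotEquiv.toEquiv.nontrivial
  exact IsSimpleGroup.isSimpleGroup_of_surjective quotEquiv.symm.toMonoidHom quotEquiv.symm.surjective

theorem card_J3 : Nat.card (Cfsg.Spor.J3 F4 F4.w) = 50232960 :=
  (Nat.card_congr quotEquiv.toEquiv).trans card_eq

end Cfsg.Agent.Spor.Cos.J3
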