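import Cfsg.Agent.Lib.Spor.Cos.FieldFour
import Cfsg.Agent.Lib.Spor.Cos.Tree
import Cfsg.Prelude.Def_Spor_J3

/-!
Vectors and matrices of dimension nine over four elements, by codes.
-/

set_option autoImplicit false
set_option maxRecDepth 100000

open Matrix

namespace Cfsg.Agent.Spor.Cos.J3

/-- The even bits among eighteen. -/
def evenBits : ℕ := 0x15555

/-- The high bits of the digits, moved down. -/
def hiBits (v : ℕ) : ℕ := (v >>> 1) &&& evenBits

/-- The low bits of the digits. -/
def loBits (v : ℕ) : ℕ := v &&& evenBits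

/-- A multiple of a vector. -/
def scal (v c : ℕ) : ℕ :=
  bif Nat.beq c 0 then 0 else bif Nat.beq c 1 then v else
    bif Nat.beq c 2 then ((hiBits v ^^^ loBits v) <<< 1) ^^^ hiBits v
    else (loBits v <<< 1) ^^^ (hiBits v ^^^ loBits v)

/-- A digit. -/
def dig (v i : ℕ) : ℕ := (v >>> (2 * i)) &&& 3

/-- A matrix, given by the codes of its columns, at a vector. -/
noncomputable def mvec (A : List ℕ) : ℕ → ℕ :=
  List.rec (motive := fun _ => ℕ → ℕ) (fun _ => 0)
    (fun col _ f v => scal col (v &&& 3) ^^^ force (v >>> 2) f) A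

/-- The product of two matrices. -/
noncomputable def mmul (A B : List ℕ) : List ℕ := B.map (mvec A)

/-- The identity. -/
def mone : List ℕ := [1, 4, 16, 64, 256, 1024, 4096, 16384, 65536]

/-- The product of a word in some matrices. -/
noncomputable def cev (X : List (List ℕ)) (w : List ℕ) : List ℕ :=
  w.foldr (fun s A => mmul (X.getD s mone) A) mone

/-- An entry of a vector. -/
def fz (v i : ℕ) : F4 := F4.toF (dig v i)

theorem dig_lt (v i : ℕ) : dig v i < 4 := Nat.and_lt_two_pow _ (show 3 < 2 ^ 2 by decide)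

theorem toF_xor : ∀ a < 4, ∀ b < 4, F4.toF (a ^^^ b) = F4.toF a + F4.toF b := by decide

theorem fz_xor (x y i : ℕ) : fz (x ^^^ y) i = fz x i + fz y i := by
  rw [fz, fz, fz, ← toF_xor _ (dig_lt x i) _ (dig_lt y i)]
  congr 1
  simp only [dig, Nat.shiftRight_xor_distrib, Nat.and_xor_distrib_right]

theorem fz_zero (i : ℕ) : fz 0 i = 0 := by simp [fz, dig]; rfl

theorem dig_eq (v i : ℕ) :
    dig v i = (bif v.testBit (2 * i + 1) then 2 else 0) + (bif v.testBit (2 * i) then 1 else 0) := by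
  have h : dig v i = (v >>> (2 * i)) % 4 := Nat.and_two_pow_sub_one_eq_mod _ 2
  have h1 : v.testBit (2 * i + 1) = decide ((v >>> (2 * i)) / 2 % 2 = 1) := by
    rw [← Nat.testBit_shiftRight, Nat.testBit_eq_decide_div_mod_eq, pow_one]
  have h0 : v.testBit (2 * i) = decide ((v >>> (2 * i)) % 2 = 1) := by
    rw [show v.testBit (2 * i) = (v >>> (2 * i)).testBit 0 by rw [Nat.testBit_shiftRight, Nat.add_zero],
      Nat.testBit_zero]
  rw [h, h1, h0]
  generalize v >>> (2 * i) = y
  rcases Nat.mod_two_eq_zero_or_one y with a | a <;> rcases Nat.mod_two_eq_zero_or_one (y / 2) with b | b <;>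
    simp [a, b] <;> omega

theorem bits_even : ∀ i < 9, evenBits.testBit (2 * i) = true ∧ evenBits.testBit (2 * i + 1) = false := by decide

theorem bits_hiLo (v : ℕ) {i : ℕ} (hi : i < 9) :
    (hiBits v).testBit (2 * i) = v.testBit (2 * i + 1) ∧ (hiBits v).testBit (2 * i + 1) = false ∧
      (loBits v).testBit (2 * i) = v.testBit (2 * i) ∧ (loBits v).testBit (2 * i + 1) = false := by
  obtain ⟨h0, h1⟩ := bits_even i hi
  simp [hiBits, loBits, Nat.testBit_and, Nat.testBit_shiftRight, h0, h1, Nat.add_comm 1]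

theorem bits_shift (y : ℕ) {i : ℕ} (hi : i < 9) (hy : ∀ j < 9, y.testBit (2 * j + 1) = false) :
    (y <<< 1).testBit (2 * i) = false ∧ (y <<< 1).testBit (2 * i + 1) = y.testBit (2 * i) := by
  refine ⟨?_, by simp [Nat.testBit_shiftLeft]⟩
  rcases i with _ | k
  · simp [Nat.testBit_shiftLeft]
  · rw [Nat.testBit_shiftLeft, show 2 * (k + 1) - 1 = 2 * k + 1 by omega, hy k (by omega), Bool.and_false]

theorem fz_scal (v : ℕ) {c i : ℕ} (hc : c < 4) (hi : i < 9) : fz (scal v c) i = F4.toF c * fz v i := by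
  obtain ⟨h1, h2, h3, h4⟩ := bits_hiLo v hi
  obtain ⟨l1, l2⟩ := bits_shift (loBits v) hi fun j hj => (bits_hiLo v hj).2.2.2
  obtain ⟨x1, x2⟩ := bits_shift (hiBits v ^^^ loBits v) hi fun j hj => by
    rw [Nat.testBit_xor, (bits_hiLo v hj).2.1, (bits_hiLo v hj).2.2.2]; rfl
  rw [Nat.testBit_xor, h1, h3] at x2
  rw [fz, fz, dig_eq, dig_eq]
  interval_cases c <;>
    simp only [scal, Nat.beq, cond_true, cond_false, Nat.zero_testBit, Nat.testBit_xor, h1, h2, h3, h4, l1, l2, x1, x2] <;>
    cases v.testBit (2 * i + 1) <;> cases v.testBit (2 * i) <;> rfl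

theorem fz_succ (v j : ℕ) : fz (v >>> 2) j = fz v (j + 1) := by
  rw [fz, fz, dig, dig, ← Nat.shiftRight_add, show 2 + 2 * j = 2 * (j + 1) by ring]

theorem fz_mvec : ∀ (A : List ℕ) (v i : ℕ), i < 9 →
    fz (mvec A v) i = ∑ j ∈ Finset.range A.length, fz (A.getD j 0) i * fz v j
  | [], v, i, _ => by simp [mvec, fz_zero]
  | col :: A, v, i, hi => by
    rw [show mvec (col :: A) v = scal col (v &&& 3) ^^^ force (v >>> 2) (mvec A) from rfl, force_eq, fz_xor,
      fz_scal col (Nat.and_lt_two_pow _ (show 3 < 2 ^ 2 by decide)) hi, fz_mvec A _ i hi, List.length_cons,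
      Finset.sum_range_succ', add_comm, mul_comm]
    congr 1
    exact Finset.sum_congr rfl fun j _ => by rw [fz_succ, List.getD_cons_succ]

/-- The place of an index. -/
def ix (z : Cfsg.Spor.F9) : ℕ := 3 * z.1.val + z.2.val

theorem ix_lt (z : Cfsg.Spor.F9) : ix z < 9 := by
  have := z.1.val_lt
  have := z.2.val_lt
  unfold ix
  omega

/-- The indices as numbers. -/
noncomputable def ixEquiv : Cfsg.Spor.F9 ≃ Fin 9 :=
  Equiv.ofBijective (fun z => ⟨ix z, ix_lt z⟩) ((Fintype.bijective_iff_injective_and_card _).2 ⟨by decide, rfl⟩)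

/-- The vector of a code. -/
def vecOf (v : ℕ) : Cfsg.Spor.F9 → F4 := fun z => fz v (ix z)

/-- The matrix of a code. -/
def matOf (A : List ℕ) : Matrix Cfsg.Spor.F9 Cfsg.Spor.F9 F4 := Matrix.of fun z y => fz (A.getD (ix y) 0) (ix z)

theorem vecOf_mvec {A : List ℕ} (hA : A.length = 9) (v : ℕ) : vecOf (mvec A v) = matOf A *ᵥ vecOf v := by
  funext z
  rw [vecOf, fz_mvec A v _ (ix_lt z), hA, Finset.sum_range]
  exact (ixEquiv.sum_comp fun j : Fin 9 => fz (A.getD j 0) (ix z) * fz v j).symm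

theorem vecOf_scal (v : ℕ) {c : ℕ} (hc : c < 4) : vecOf (scal v c) = F4.toF c • vecOf v := by
  funext z
  exact fz_scal v hc (ix_lt z)

theorem getD_map (B : List ℕ) (f : ℕ → ℕ) {i : ℕ} (hi : i < B.length) :
    (B.map f).getD i 0 = f (B.getD i 0) := by
  simp [List.getD_eq_getElem?_getD, List.getElem?_eq_getElem hi]

theorem matOf_mmul {A B : List ℕ} (hA : A.length = 9) (hB : B.length = 9) :
    matOf (mmul A B) = matOf A * matOf B := by
  refine Matrix.ext fun z y => ?_
  show fz ((B.map (mvec A)).getD (ix y) 0) (ix z) = _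
  rw [getD_map B _ (hB ▸ ix_lt y)]
  exact congrFun (vecOf_mvec hA (B.getD (ix y) 0)) z

theorem matOf_scal {A : List ℕ} (hA : A.length = 9) {c : ℕ} (hc : c < 4) :
    matOf (A.map fun v => scal v c) = F4.toF c • matOf A := by
  refine Matrix.ext fun z y => ?_
  show fz ((A.map fun v => scal v c).getD (ix y) 0) (ix z) = _
  rw [getD_map A _ (hA ▸ ix_lt y)]
  exact fz_scal _ hc (ix_lt z)

theorem matOf_mone : matOf mone = 1 := by decide +kernel

/-- All matrices of a list have nine columns. -/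
def colsOk (X : List (List ℕ)) : Bool := X.all fun A => Nat.beq A.length 9

theorem length_getD {X : List (List ℕ)} (h : colsOk X = true) (s : ℕ) : (X.getD s mone).length = 9 := by
  rw [List.getD_eq_getElem?_getD]
  rcases e : X[s]? with _ | A
  · rfl
  · exact Nat.eq_of_beq_eq_true (List.all_eq_true.1 h A (List.mem_of_getElem? e))

theorem length_cev {X : List (List ℕ)} : ∀ w : List ℕ, (cev X w).length = 9
  | [] => rfl
  | s :: w => by simp [cev, mmul]; exact length_cev w

theorem coe_ev {X : List (List ℕ)} (h : colsOk X = true) {G : Type*} [Monoid G]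
    (m : G →* Matrix Cfsg.Spor.F9 Cfsg.Spor.F9 F4) (g : ℕ → G) (hg : ∀ s, m (g s) = matOf (X.getD s mone)) :
    ∀ w : List ℕ, m ((w.map g).prod) = matOf (cev X w)
  | [] => by simp [cev, matOf_mone]
  | s :: w => by
    rw [List.map_cons, List.prod_cons, map_mul, hg, coe_ev h m g hg w]
    exact (matOf_mmul (length_getD h s) (length_cev w)).symm

end Cfsg.Agent.Spor.Cos.J3
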