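import Cfsg.Agent.Lib.Spor.Cos.Log

/-!
Data of a coset enumeration with 34 cosets.
-/

set_option autoImplicit false
set_option maxRecDepth 100000
set_option maxHeartbeats 4000000

namespace Cfsg.Agent.Spor.Cos.J3

def dihFactsT0 : Tree := .leaf 0x100020000210000210001f0000200001e10001f0001d10001e0001c00001d0001b00001c0001a10001b0001910001a0001800001900017000018000161000170001510001600014000015000130000140001210001300011100012000100000110000f0000100000e10000f0000d10000e0000c00000d0000b00000c0000a10000b0000910000a00008000009000070000080000610000700005100006000040000050000300000400002100003000011000020000000000100000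

/-- The table dihFacts. -/
def dihFacts : Table := ⟨dihFactsT0, 0, 44, 6⟩

def dihFinalT0 : Tree := .node (.leaf 0x1e800100000760003e0001e0000e400074000370001a8000e000066000360001a0000c4000640002f000168000c0000560002e000160000a40005400027000128000a0000460002600012000084000440001f0000e800080000360001e0000e00006400034000170000a80006000026000160000a000044000240000f00006800040000160000e000060000240001400007000028000200000600006000020000040000400000) (.leaf 0x21000104000860003f)

/-- The table dihFinal. -/
def dihFinal : Table := ⟨dihFinalT0, 1, 21, 6⟩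

/-- The base words of `dih`. -/
def dihBase : List (List ℕ) := [[0, 1, 0, 1, 0, 1, 0, 1, 0, 1, 0, 1, 0, 1, 0, 1, 0, 1, 0, 1, 0, 1, 0, 1, 0, 1, 0, 1, 0, 1, 0, 1, 0, 1]]

/-- The certificate `dih`. -/
def dih : Log where
  n := 2
  N := 34
  M := 34
  nF := 34
  facts := dihFacts
  final := dihFinal
  rels := [[0, 1, 0, 1, 0, 1, 0, 1, 0, 1, 0, 1, 0, 1, 0, 1, 0, 1, 0, 1, 0, 1, 0, 1, 0, 1, 0, 1, 0, 1, 0, 1, 0, 1]]
  sub := []

end Cfsg.Agent.Spor.Cos.J3
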