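import Cfsg.Agent.Lib.Spor.Cos.J3.DihData

/-! Checks of the facts of a coset enumeration. -/

set_option autoImplicit false
set_option maxRecDepth 100000
set_option maxHeartbeats 4000000

namespace Cfsg.Agent.Spor.Cos.J3

theorem dih_part0 : dih.chkPart 33 34 [(1, 0x6000070000580003c00026000170000d80007c0004600027000158000bc00066000370001d8000fc000800003c0001c0000d0000600002c00014000090000400001c0000c000050000200000c000040000100000010088000004400)] = true := by decide +kernel

end Cfsg.Agent.Spor.Cos.J3
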