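import Cfsg.Agent.Lib.Spor.Cos.J3.IsoChk0
import Cfsg.Agent.Lib.Spor.Cos.J3.IsoChk1
import Cfsg.Agent.Lib.Spor.Cos.J3.IsoChk2
import Cfsg.Agent.Lib.Spor.Cos.J3.IsoChk3
import Cfsg.Agent.Lib.Spor.Cos.J3.IsoChk4
import Cfsg.Agent.Lib.Spor.Cos.J3.IsoChk5
import Cfsg.Agent.Lib.Spor.Cos.J3.IsoChk6
import Cfsg.Agent.Lib.Spor.Cos.J3.IsoChk7

/-! Data and checks for a presented sporadic group. -/

set_option autoImplicit false
set_option maxRecDepth 100000
set_option maxHeartbeats 4000000

namespace Cfsg.Agent.Spor.Cos.J3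

theorem iso_chk : ∀ i < 43605, (chkLine isoT 43605 4160) i = true :=
  of_blocks (size := 2048) (b := 22) (by decide) (by decide) fun j hj => by
    interval_cases j
    · exact iso_chk0
    · exact iso_chk1
    · exact iso_chk2
    · exact iso_chk3
    · exact iso_chk4
    · exact iso_chk5
    · exact iso_chk6
    · exact iso_chk7
    · exact iso_chk8
    · exact iso_chk9
    · exact iso_chk10
    · exact iso_chk11
    · exact iso_chk12
    · exact iso_chk13
    · exact iso_chk14
    · exact iso_chk15
    · exact iso_chk16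
    · exact iso_chk17
    · exact iso_chk18
    · exact iso_chk19
    · exact iso_chk20
    · exact iso_chk21

end Cfsg.Agent.Spor.Cos.J3
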