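import Cfsg.Agent.Lib.Spor.Cos.J3.LineChk0
import Cfsg.Agent.Lib.Spor.Cos.J3.LineChk1
import Cfsg.Agent.Lib.Spor.Cos.J3.LineChk2
import Cfsg.Agent.Lib.Spor.Cos.J3.LineChk3
import Cfsg.Agent.Lib.Spor.Cos.J3.LineChk4
import Cfsg.Agent.Lib.Spor.Cos.J3.LineChk5

/-! Data and checks for a presented sporadic group. -/

set_option autoImplicit false
set_option maxRecDepth 100000
set_option maxHeartbeats 4000000

namespace Cfsg.Agent.Spor.Cos.J3

theorem line_chk : ∀ i < 23256, (chkLine lineT 23256 1) i = true :=
  of_blocks (size := 2048) (b := 12) (by decide) (by decide) fun j hj => by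
    interval_cases j
    · exact line_chk0
    · exact line_chk1
    · exact line_chk2
    · exact line_chk3
    · exact line_chk4
    · exact line_chk5
    · exact line_chk6
    · exact line_chk7
    · exact line_chk8
    · exact line_chk9
    · exact line_chk10
    · exact line_chk11

end Cfsg.Agent.Spor.Cos.J3
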