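import Cfsg.Agent.Lib.Spor.Cos.J3.LineDefs
import Cfsg.Agent.Lib.Spor.Cos.J3.LineData

/-! Data and checks for a presented sporadic group. -/

set_option autoImplicit false
set_option maxRecDepth 100000
set_option maxHeartbeats 4000000

namespace Cfsg.Agent.Spor.Cos.J3

theorem line_closed20 : allBlock (chkLineClosed lineT lineC 23256) 23256 1024 20 = true := by decide +kernel

theorem line_closed21 : allBlock (chkLineClosed lineT lineC 23256) 23256 1024 21 = true := by decide +kernel

theorem line_closed22 : allBlock (chkLineClosed lineT lineC 23256) 23256 1024 22 = true := by decide +kernel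


end Cfsg.Agent.Spor.Cos.J3
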