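import Cfsg.Agent.Lib.Spor.Cos.J3.LineClosed0
import Cfsg.Agent.Lib.Spor.Cos.J3.LineClosed1
import Cfsg.Agent.Lib.Spor.Cos.J3.LineClosed2
import Cfsg.Agent.Lib.Spor.Cos.J3.LineClosed3
import Cfsg.Agent.Lib.Spor.Cos.J3.LineClosed4
import Cfsg.Agent.Lib.Spor.Cos.J3.LineClosed5

/-! Data and checks for a presented sporadic group. -/

set_option autoImplicit false
set_option maxRecDepth 100000
set_option maxHeartbeats 4000000

namespace Cfsg.Agent.Spor.Cos.J3

theorem line_closed : ∀ i < 23256, (chkLineClosed lineT lineC 23256) i = true :=
  of_blocks (size := 1024) (b := 23) (by decide) (by decide) fun j hj => by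
    interval_cases j
    · exact line_closed0
    · exact line_closed1
    · exact line_closed2
    · exact line_closed3
    · exact line_closed4
    · exact line_closed5
    · exact line_closed6
    · exact line_closed7
    · exact line_closed8
    · exact line_closed9
    · exact line_closed10
    · exact line_closed11
    · exact line_closed12
    · exact line_closed13
    · exact line_closed14
    · exact line_closed15
    · exact line_closed16
    · exact line_closed17
    · exact line_closed18
    · exact line_closed19
    · exact line_closed20
    · exact line_closed21
    · exact line_closed22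

end Cfsg.Agent.Spor.Cos.J3
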