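import Cfsg.Agent.Lib.Spor.Cos.J3.Code
import Cfsg.Agent.Lib.Spor.Cos.J3.MatData
import Cfsg.Agent.Lib.Spor.Cos.Act

/-!
Checks of lists of lines, one representative each, each reached from an earlier one by a generator.
-/

set_option autoImplicit false

namespace Cfsg.Agent.Spor.Cos.J3

/-- The representative of a line. -/
noncomputable def lCode (T : Tab) (i : ℕ) : ℕ := T.at i % 262144

/-- The rank of a line in the search. -/
noncomputable def lRank (T : Tab) (i : ℕ) : ℕ := T.at i >>> 39

/-- A list entry. -/
noncomputable def chkLine (T : Tab) (N root i : ℕ) : Bool :=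
  force (T.at i) fun E => force (E % 262144) fun v => force (E >>> 39) fun rk =>
    (Nat.blt v (scal v 2) && Nat.blt (scal v 2) 262144 && Nat.blt v (scal v 3) && Nat.blt (scal v 3) 262144) &&
      (bif Nat.blt (i + 1) N then Nat.blt v (lCode T (i + 1)) else true) &&
      bif Nat.beq rk 0 then Nat.beq v root
      else force ((E >>> 18) % 65536) fun p => force ((E >>> 34) % 8) fun s => force ((E >>> 37) % 4) fun c =>
        Nat.blt p N && Nat.blt s 4 && !Nat.beq c 0 && Nat.blt (lRank T p) rk &&
          Nat.beq (mvec (xTab.getD s mone) (lCode T p)) (scal v c)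

/-- The images of a listed line are listed. -/
noncomputable def chkLineClosed (T C : Tab) (N i : ℕ) : Bool :=
  force (lCode T i) fun v => force (C.at i) fun R =>
    (List.range 4).all fun s => force ((R >>> (18 * s)) % 262144) fun e => force (e % 65536) fun j =>
      Nat.blt j N && !Nat.beq (e >>> 16) 0 && Nat.blt (e >>> 16) 4 &&
        Nat.beq (mvec (xTab.getD s mone) v) (scal (lCode T j) (e >>> 16))

end Cfsg.Agent.Spor.Cos.J3
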