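import Cfsg.Agent.Lib.Spor.Cos.J3.Unitary
import Cfsg.Agent.Lib.Spor.Cos.J3.LineChk
import Cfsg.Agent.Lib.Spor.Cos.J3.LineClosed
import Cfsg.Agent.Lib.Spor.Cos.J3.IsoChk
import Cfsg.Agent.Lib.Classical.Unit

/-!
The lines in the orbit of the first basis vector and the isotropic lines.
-/

set_option autoImplicit false
set_option maxRecDepth 100000
set_option maxHeartbeats 1000000

open Matrix

namespace Cfsg.Agent.Spor.Cos.J3

theorem eq_of_vecOf {v v' : ℕ} (hv : v < 262144) (hv' : v' < 262144) (h : vecOf v = vecOf v') : v = v' := by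
  refine Nat.eq_of_testBit_eq fun b => ?_
  rcases Nat.lt_or_ge b 18 with hb | hb
  · obtain ⟨Z, hZ, -⟩ := ix_inv (b / 2) (by omega)
    have e := congrFun h Z
    simp only [vecOf, fz, hZ] at e
    have inj : ∀ x < 4, ∀ y < 4, F4.toF x = F4.toF y → x = y := by decide
    have e' := inj _ (dig_lt v _) _ (dig_lt v' _) e
    rw [dig_eq, dig_eq] at e'
    rcases Nat.mod_two_eq_zero_or_one b with hb2 | hb2
    · rw [show b = 2 * (b / 2) by omega]
      revert e'
      cases v.testBit (2 * (b / 2) + 1) <;> cases v.testBit (2 * (b / 2)) <;>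
        cases v'.testBit (2 * (b / 2) + 1) <;> cases v'.testBit (2 * (b / 2)) <;> simp
    · rw [show b = 2 * (b / 2) + 1 by omega]
      revert e'
      cases v.testBit (2 * (b / 2) + 1) <;> cases v.testBit (2 * (b / 2)) <;>
        cases v'.testBit (2 * (b / 2) + 1) <;> cases v'.testBit (2 * (b / 2)) <;> simp
  · have h18 : (262144 : ℕ) ≤ 2 ^ b :=
      le_trans (le_of_eq (by norm_num)) (Nat.pow_le_pow_right (by norm_num : 0 < 2) hb)
    rw [Nat.testBit_lt_two_pow (lt_of_lt_of_le hv h18), Nat.testBit_lt_two_pow (lt_of_lt_of_le hv' h18)]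

theorem coe_xg_mulVec (s v : ℕ) :
    ((xg s : L9) : Matrix X9 X9 F4) *ᵥ vecOf v = vecOf (mvec (xTab.getD s mone) v) :=
  (vecOf_mvec (length_getD xTab_cols s) v).symm

/-- The vector of a listed line. -/
noncomputable def lVec (T : Tab) (i : ℕ) : X9 → F4 := vecOf (lCode T i)

theorem scalar_cases : ∀ c : F4, c = 0 ∨ c = 1 ∨ c = F4.w ∨ c = F4.v := by decide

theorem toF_ne_zero : ∀ c < 4, c ≠ 0 → F4.toF c ≠ 0 := by decide

section

variable {T : Tab} {N root : ℕ} (hT : ∀ i < N, chkLine T N root i = true)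
include hT

theorem line_facts {i : ℕ} (hi : i < N) :
    (lCode T i < scal (lCode T i) 2 ∧ scal (lCode T i) 2 < 262144 ∧ lCode T i < scal (lCode T i) 3 ∧
        scal (lCode T i) 3 < 262144) ∧ (i + 1 < N → lCode T i < lCode T (i + 1)) ∧
      (lCode T i = root ∨ ∃ p s c, p < N ∧ s < 4 ∧ c < 4 ∧ c ≠ 0 ∧ lRank T p < lRank T i ∧
        mvec (xTab.getD s mone) (lCode T p) = scal (lCode T i) c) := by
  have h := hT i hi
  simp only [chkLine, force_eq, Bool.and_eq_true, ← lCode.eq_def, ← lRank.eq_def] at h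
  obtain ⟨⟨⟨⟨⟨h1, h2⟩, h3⟩, h4⟩, h5⟩, h6⟩ := h
  refine ⟨⟨Nat.le_of_ble_eq_true h1, Nat.le_of_ble_eq_true h2, Nat.le_of_ble_eq_true h3, Nat.le_of_ble_eq_true h4⟩,
    fun hlt => ?_, ?_⟩
  · rw [show Nat.blt (i + 1) N = true from Nat.ble_eq_true_of_le hlt, cond_true] at h5
    exact Nat.le_of_ble_eq_true h5
  · cases e : Nat.beq (lRank T i) 0
    · rw [e, cond_false] at h6
      simp only [Bool.and_eq_true, Bool.not_eq_true'] at h6
      obtain ⟨⟨⟨⟨a1, a2⟩, a3⟩, a4⟩, a5⟩ := h6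
      exact Or.inr ⟨_, _, _, Nat.le_of_ble_eq_true a1, Nat.le_of_ble_eq_true a2, Nat.mod_lt _ (by norm_num),
        fun hc => by rw [hc] at a3; exact absurd a3 (by decide), Nat.le_of_ble_eq_true a4, Nat.eq_of_beq_eq_true a5⟩
    · rw [e, cond_true] at h6
      exact Or.inl (Nat.eq_of_beq_eq_true h6)

theorem code_strictMono {i j : ℕ} (hj : j < N) (hij : i < j) : lCode T i < lCode T j := by
  induction j with
  | zero => omega
  | succ j ih =>
    have h := (line_facts hT (i := j) (by omega)).2.1 hj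
    rcases Nat.lt_or_ge i j with h' | h'
    · exact lt_trans (ih (by omega) h') h
    · rwa [show i = j by omega]

theorem code_lt {i : ℕ} (hi : i < N) : lCode T i < 262144 :=
  lt_trans (line_facts hT hi).1.1 (line_facts hT hi).1.2.1

theorem lVec_inj {i j : ℕ} (hi : i < N) (hj : j < N) {c : F4} (hc : c ≠ 0) (h : c • lVec T i = lVec T j) :
    i = j ∧ c = 1 := by
  obtain ⟨⟨i2, i2', i3, i3'⟩, -, -⟩ := line_facts hT hi
  obtain ⟨⟨j2, j2', j3, j3'⟩, -, -⟩ := line_facts hT hj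
  rcases scalar_cases c with rfl | rfl | rfl | rfl
  · exact absurd rfl hc
  · rw [one_smul] at h
    have e := eq_of_vecOf (code_lt hT hi) (code_lt hT hj) h
    rcases lt_trichotomy i j with l | l | l
    · exact absurd e (code_strictMono hT hj l).ne
    · exact ⟨l, rfl⟩
    · exact absurd e (code_strictMono hT hi l).ne'
  all_goals exfalso
  · have e : lCode T j = scal (lCode T i) 2 :=
      eq_of_vecOf (code_lt hT hj) i2' (by rw [vecOf_scal _ (by norm_num)]; exact h.symm)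
    have e' : lCode T i = scal (lCode T j) 3 := eq_of_vecOf (code_lt hT hi) j3' (by
      rw [vecOf_scal _ (by norm_num)]
      show lVec T i = F4.v • lVec T j
      rw [← h, smul_smul, show F4.v * F4.w = 1 by decide, one_smul])
    omega
  · have e : lCode T j = scal (lCode T i) 3 :=
      eq_of_vecOf (code_lt hT hj) i3' (by rw [vecOf_scal _ (by norm_num)]; exact h.symm)
    have e' : lCode T i = scal (lCode T j) 2 := eq_of_vecOf (code_lt hT hi) j2' (by
      rw [vecOf_scal _ (by norm_num)]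
      show lVec T i = F4.w • lVec T j
      rw [← h, smul_smul, show F4.w * F4.v = 1 by decide, one_smul])
    omega

theorem line_reach (i : ℕ) (hi : i < N) :
    ∃ u ∈ K9, ∃ c : F4, c ≠ 0 ∧ ((u : L9) : Matrix X9 X9 F4) *ᵥ vecOf root = c • lVec T i := by
  induction hr : lRank T i using Nat.strong_induction_on generalizing i with
  | _ r ih =>
    rcases (line_facts hT hi).2.2 with e | ⟨p, s, c, hp, hs, hc, hc0, hlt, hm⟩
    · exact ⟨1, one_mem _, 1, one_ne_zero, by rw [one_smul, Units.val_one, Matrix.one_mulVec, lVec, e]⟩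
    · obtain ⟨u, hu, d, hd, hud⟩ := ih _ (hr ▸ hlt) p hp rfl
      refine ⟨xg s * u, mul_mem (Subgroup.subset_closure ⟨s, hs, rfl⟩) hu, d * F4.toF c,
        mul_ne_zero hd (toF_ne_zero c hc hc0), ?_⟩
      rw [Units.val_mul, ← Matrix.mulVec_mulVec, hud, Matrix.mulVec_smul, lVec, coe_xg_mulVec, hm,
        vecOf_scal _ hc, smul_smul, lVec]

theorem lines_closed {C : Tab} (hC : ∀ i < N, chkLineClosed T C N i = true) {u : L9} (hu : u ∈ K9) :
    ∀ i < N, ∃ j < N, ∃ c : F4, c ≠ 0 ∧ (u : Matrix X9 X9 F4) *ᵥ lVec T i = c • lVec T j := by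
  have hgen : ∀ s < 4, ∀ i < N, ∃ j < N, ∃ c : F4, c ≠ 0 ∧
      ((xg s : L9) : Matrix X9 X9 F4) *ᵥ lVec T i = c • lVec T j := by
    intro s hs i hi
    have h := hC i hi
    simp only [chkLineClosed, force_eq, List.all_eq_true, List.mem_range] at h
    have h' := h s hs
    simp only [Bool.and_eq_true, Bool.not_eq_true'] at h'
    obtain ⟨⟨⟨a1, a2⟩, a3⟩, a4⟩ := h'
    refine ⟨_, Nat.le_of_ble_eq_true a1, _, toF_ne_zero _ (Nat.le_of_ble_eq_true a3) (fun hc => ?_), ?_⟩
    · rw [hc] at a2; exact absurd a2 (by decide)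
    rw [lVec, coe_xg_mulVec, Nat.eq_of_beq_eq_true a4, vecOf_scal _ (Nat.le_of_ble_eq_true a3), lVec]
  induction hu using Subgroup.closure_induction'' with
  | mem x hx =>
    obtain ⟨s, hs, rfl⟩ := hx
    exact hgen s hs
  | inv_mem x hx =>
    obtain ⟨s, hs, rfl⟩ := hx
    rw [show (xg s)⁻¹ = xg s from inv_eq_of_mul_eq_one_left (xg_sq s)]
    exact hgen s hs
  | one => exact fun i hi => ⟨i, hi, 1, one_ne_zero, by simp⟩
  | mul x y _ _ hx hy =>
    intro i hi
    obtain ⟨j, hj, c, hc, e⟩ := hy i hi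
    obtain ⟨k, hk, d, hd, e'⟩ := hx j hj
    exact ⟨k, hk, c * d, mul_ne_zero hc hd, by
      rw [Units.val_mul, ← Matrix.mulVec_mulVec, e, Matrix.mulVec_smul, e', smul_smul]⟩

end

/-- The first basis vector. -/
def e0 : X9 → F4 := Pi.single 0 1

theorem e0_eq : e0 = vecOf 1 := by decide +kernel

theorem root_line : lCode lineT 0 = 1 := by decide +kernel

theorem orbit_ncard : {L : Submodule F4 (X9 → F4) | ∃ u ∈ U9,
    L = F4 ∙ (((u : L9) : Matrix X9 X9 F4) *ᵥ e0)}.ncard = 23256 := by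
  rw [show U9 = K9 from threeJ3_eq]
  have hset : {L : Submodule F4 (X9 → F4) | ∃ u ∈ K9, L = F4 ∙ (((u : L9) : Matrix X9 X9 F4) *ᵥ e0)} =
      Set.range fun i : Fin 23256 => F4 ∙ lVec lineT i := by
    ext L
    constructor
    · rintro ⟨u, hu, rfl⟩
      obtain ⟨j, hj, c, hc, e⟩ := lines_closed line_chk line_closed hu 0 (by norm_num)
      refine ⟨⟨j, hj⟩, ?_⟩
      rw [lVec, root_line, ← e0_eq] at e
      rw [e, Submodule.span_singleton_smul_eq (IsUnit.mk0 c hc)]
    · rintro ⟨⟨i, hi⟩, rfl⟩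
      obtain ⟨u, hu, c, hc, e⟩ := line_reach line_chk i hi
      refine ⟨u, hu, ?_⟩
      rw [e0_eq, e, Submodule.span_singleton_smul_eq (IsUnit.mk0 c hc)]
  rw [hset, Set.ncard_range_of_injective, Nat.card_eq_fintype_card, Fintype.card_fin]
  intro i j hij
  obtain ⟨c, hc⟩ := Submodule.span_singleton_eq_span_singleton.1 (show F4 ∙ lVec lineT i = F4 ∙ lVec lineT j from hij)
  exact Fin.ext (lVec_inj line_chk i.2 j.2 (c := (c : F4)) c.ne_zero hc).1

/-- The cubic sum of a vector. -/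
def cubeSum (v : X9 → F4) : F4 := ∑ z, (v z) ^ 3

theorem cubeSum_eq (v : X9 → F4) : cubeSum v = Cfsg.hermForm 9 F4 2 (v ∘ ixEquiv.symm) (v ∘ ixEquiv.symm) := by
  rw [cubeSum, ← ixEquiv.symm.sum_comp]
  exact Finset.sum_congr rfl fun i _ => pow_succ' _ 2

theorem cubeSum_invariant {u : L9} (hu : u ∈ K9) (v : X9 → F4) :
    cubeSum ((u : Matrix X9 X9 F4) *ᵥ v) = cubeSum v := by
  rw [cubeSum_eq, cubeSum_eq]
  have e : ((u : Matrix X9 X9 F4) *ᵥ v) ∘ ixEquiv.symm = finMat ⟨u, threeJ3_eq.ge hu⟩ *ᵥ (v ∘ ixEquiv.symm) := by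
    rw [finMat, Matrix.reindexAlgEquiv_apply, Matrix.reindex_apply, Matrix.submatrix_mulVec_equiv]
    simp [Function.comp_def]
  rw [e]
  exact toSL_mem ⟨u, threeJ3_eq.ge hu⟩ _ _

theorem cubeSum_smul (c : F4) (v : X9 → F4) : cubeSum (c • v) = c ^ 3 * cubeSum v := by
  simp [cubeSum, mul_pow, Finset.mul_sum]

theorem root_isotropic : cubeSum (vecOf 4160) = 0 := by decide +kernel

theorem isotropic_of_listed {i : ℕ} (hi : i < 43605) : cubeSum (lVec isoT i) = 0 := by
  obtain ⟨u, hu, c, hc, e⟩ := line_reach iso_chk i hi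
  have h := cubeSum_invariant hu (vecOf 4160)
  rw [e, cubeSum_smul, root_isotropic] at h
  exact (mul_eq_zero.1 h).resolve_left (pow_ne_zero 3 hc)

theorem card_isotropic : Nat.card {v : X9 → F4 // v ≠ 0 ∧ cubeSum v = 0} = 130815 := by
  classical
  have h0 : Cfsg.Agent.Classical.normCount 9 F4 2 (0 : F4) = 130816 := by
    have h := Cfsg.Agent.Classical.normCount_zero (F := F4) F4.card_sq 9
    norm_num at h
    omega
  rw [Cfsg.Agent.Classical.normCount,
    ← Nat.card_congr ((Equiv.arrowCongr ixEquiv (Equiv.refl F4)).subtypeEquiv (p := fun v => cubeSum v = 0)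
      (fun v => by rw [cubeSum_eq]; rfl)), Nat.card_eq_fintype_card, Fintype.card_subtype] at h0
  rw [Nat.card_eq_fintype_card, Fintype.card_subtype,
    show (Finset.univ.filter fun v : X9 → F4 => v ≠ 0 ∧ cubeSum v = 0) =
      (Finset.univ.filter fun v : X9 → F4 => cubeSum v = 0).erase 0 by ext v; simp,
    Finset.card_erase_of_mem (Finset.mem_filter.2 ⟨Finset.mem_univ _, by simp [cubeSum]⟩), h0]

theorem exists_listed {v : X9 → F4} (hv : v ≠ 0) (h : cubeSum v = 0) :
    ∃ i < 43605, ∃ c : F4, c ≠ 0 ∧ v = c • lVec isoT i := by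
  let f : Fin 43605 × F4ˣ → {v : X9 → F4 // v ≠ 0 ∧ cubeSum v = 0} := fun p =>
    ⟨(p.2 : F4) • lVec isoT p.1, smul_ne_zero p.2.ne_zero (fun e => by
        obtain ⟨u, -, c, -, eu⟩ := line_reach iso_chk p.1 p.1.2
        rw [e, smul_zero] at eu
        have := congrArg (fun w => ((u⁻¹ : L9) : Matrix X9 X9 F4) *ᵥ w) eu
        simp only [Matrix.mulVec_mulVec, ← Units.val_mul, inv_mul_cancel, Units.val_one, Matrix.one_mulVec,
          Matrix.mulVec_zero] at this
        revert this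
        decide +kernel),
      by rw [cubeSum_smul, isotropic_of_listed p.1.2, mul_zero]⟩
  have hf : Function.Injective f := by
    rintro ⟨i, c⟩ ⟨j, d⟩ e
    have e' : (c : F4) • lVec isoT i = (d : F4) • lVec isoT j := congrArg Subtype.val e
    have := lVec_inj iso_chk i.2 j.2 (c := (d : F4)⁻¹ * c) (mul_ne_zero (inv_ne_zero d.ne_zero) c.ne_zero) (by
      rw [← smul_smul, e', smul_smul, inv_mul_cancel₀ d.ne_zero, one_smul])
    refine Prod.ext (Fin.ext this.1) (Units.ext ?_)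
    have h2 := congrArg (fun x => (d : F4) * x) this.2
    simp only [mul_one, ← mul_assoc, mul_inv_cancel₀ d.ne_zero, one_mul] at h2
    exact h2
  have hcard : Nat.card (Fin 43605 × F4ˣ) = Nat.card {v : X9 → F4 // v ≠ 0 ∧ cubeSum v = 0} := by
    rw [card_isotropic, Nat.card_prod, Nat.card_units, Nat.card_eq_fintype_card, Fintype.card_fin,
      Nat.card_eq_fintype_card, F4.card_eq]
  obtain ⟨⟨i, c⟩, e⟩ := ((Nat.bijective_iff_injective_and_card f).2 ⟨hf, hcard⟩).2 ⟨v, hv, h⟩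
  exact ⟨i, i.2, c, c.ne_zero, (congrArg Subtype.val e).symm⟩

theorem isotropic_transitive {v w : X9 → F4} (hv : v ≠ 0) (hw : w ≠ 0) (h : cubeSum v = 0) (h' : cubeSum w = 0) :
    ∃ u ∈ U9, ∃ c : F4, c ≠ 0 ∧ ((u : L9) : Matrix X9 X9 F4) *ᵥ v = c • w := by
  rw [show U9 = K9 from threeJ3_eq]
  obtain ⟨i, hi, a, ha, rfl⟩ := exists_listed hv h
  obtain ⟨j, hj, b, hb, rfl⟩ := exists_listed hw h'
  obtain ⟨ui, hui, ci, hci, ei⟩ := line_reach iso_chk i hi
  obtain ⟨uj, huj, cj, hcj, ej⟩ := line_reach iso_chk j hj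
  refine ⟨uj * ui⁻¹, mul_mem huj (inv_mem hui), a * ci⁻¹ * cj * b⁻¹,
    mul_ne_zero (mul_ne_zero (mul_ne_zero ha (inv_ne_zero hci)) hcj) (inv_ne_zero hb), ?_⟩
  have e1 : ((ui⁻¹ : L9) : Matrix X9 X9 F4) *ᵥ lVec isoT i = ci⁻¹ • vecOf 4160 := by
    have := congrArg (fun w => ci⁻¹ • (((ui⁻¹ : L9) : Matrix X9 X9 F4) *ᵥ w)) ei
    simp only [Matrix.mulVec_mulVec, ← Units.val_mul, inv_mul_cancel, Units.val_one, Matrix.one_mulVec,
      Matrix.mulVec_smul, smul_smul, inv_mul_cancel₀ hci, one_smul] at this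
    exact this.symm
  rw [Units.val_mul, ← Matrix.mulVec_mulVec, Matrix.mulVec_smul, e1, smul_smul, Matrix.mulVec_smul, ej, smul_smul,
    smul_smul]
  congr 1
  field_simp

end Cfsg.Agent.Spor.Cos.J3
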