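import Cfsg.Agent.Lib.Spor.Cos.Orb

/-! Data and checks for a presented sporadic group. -/

set_option autoImplicit false
set_option maxRecDepth 100000
set_option maxHeartbeats 4000000

namespace Cfsg.Agent.Spor.Cos.J3

def lv2EB0 : Bst := .leaf 0x10001004f00010000015a00000000000a000000000001

/-- The table lv2E. -/
def lv2E : Tab := ⟨lv2EB0, 48, 4⟩

def lv2PB0 : Bst := .node 12 (.node 6 (.node 3 (.node 1 (.leaf 0x10000000000000000000000000000000000000000) (.leaf 0)) (.node 4 (.leaf 0) (.node 5 (.leaf 0x3000000000000000000000000000000000000000000000000000000000000) (.leaf 0)))) (.leaf 0)) (.node 18 (.leaf 0) (.node 21 (.leaf 0) (.node 22 (.leaf 0x20000000000000000000000000000000000000000) (.leaf 0))))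

/-- The table lv2P. -/
def lv2P : Tab := ⟨(.node 192 (.node 96 (.node 48 (.node 24 lv2PB0 (.leaf 0)) (.leaf 0)) (.leaf 0)) (.leaf 0)), 16, 4⟩

/-- The words of `lv2`. -/
def lv2W : List (List ℕ) := [[1, 2, 0, 2, 1], [2, 1, 0, 1, 2, 0, 2, 1, 0]]

/-- An orbit of 4 points. -/
def lv2 : Orb := ⟨4, lv2E, lv2P⟩

end Cfsg.Agent.Spor.Cos.J3
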