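import Cfsg.Agent.Lib.Spor.Cos.J3.IsSimple
import Cfsg.Agent.Lib.Spor.Cos.J3.Code
import Cfsg.Agent.Lib.Spor.Cos.J3.MatData

/-!
The triple cover in dimension nine over four elements and the presented group.
-/

set_option autoImplicit false
set_option maxRecDepth 100000
set_option maxHeartbeats 1000000

open Matrix

namespace Cfsg.Agent.Spor.Cos.J3

/-- The index type of the basis. -/
abbrev X9 : Type := Cfsg.Spor.F9

/-- The general linear group. -/
abbrev L9 : Type := GL X9 F4

theorem xTab_cols : colsOk xTab = true := by decide +kernel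

theorem gTab_cols : colsOk gTab = true := by decide +kernel

theorem xTab_sq : ∀ s < 4, cev xTab [s, s] = mone := by decide +kernel

theorem xMat_sq (s : ℕ) : matOf (xTab.getD s mone) * matOf (xTab.getD s mone) = 1 := by
  rcases Nat.lt_or_ge s 4 with hs | hs
  · have h := coe_ev (G := Matrix X9 X9 F4) xTab_cols (MonoidHom.id _) (fun t => matOf (xTab.getD t mone))
      (fun _ => rfl) [s, s]
    rw [xTab_sq s hs, matOf_mone] at h
    simpa using h
  · have e : xTab.getD s mone = mone := by
      rw [List.getD_eq_getElem?_getD, List.getElem?_eq_none (show xTab.length ≤ s from hs)]; rfl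
    rw [e, matOf_mone, one_mul]

/-- The involutions. -/
noncomputable def xg (s : ℕ) : L9 := ⟨matOf (xTab.getD s mone), matOf (xTab.getD s mone), xMat_sq s, xMat_sq s⟩

theorem xg_sq (s : ℕ) : xg s * xg s = 1 := Units.ext (xMat_sq s)

theorem ev_eq_prod {G : Type*} [Group G] (f : ℕ → G) : ∀ w : List ℕ, ev f w = (w.map f).prod
  | [] => rfl
  | s :: w => by rw [List.map_cons, List.prod_cons, ev, ev_eq_prod f w]

theorem coe_ev_xg (w : List ℕ) : ((ev xg w : L9) : Matrix X9 X9 F4) = matOf (cev xTab w) := by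
  rw [ev_eq_prod]
  exact coe_ev (G := L9) xTab_cols (Units.coeHom _) xg (fun _ => rfl) w

/-- A nonzero scalar as a unit. -/
noncomputable def scalarU (a : F4) : L9 :=
  if h : a = 0 then 1 else GeneralLinearGroup.scalar X9 (Units.mk0 a h)

theorem coe_scalarU {a : F4} (h : a ≠ 0) : ((scalarU a : L9) : Matrix X9 X9 F4) = a • 1 := by
  rw [scalarU, dif_neg h, smul_one_eq_diagonal]
  rfl

theorem scalarU_mem_center (a : F4) : scalarU a ∈ Subgroup.center L9 := by
  rw [GeneralLinearGroup.center_eq_range_scalar, scalarU]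
  split
  · exact one_mem _
  · exact ⟨_, rfl⟩

/-- A word has a scalar value. -/
noncomputable def scalarWord (w : List ℕ) : Bool :=
  decide (cev xTab w = mone) || decide (cev xTab w = mone.map fun v => scal v 2) ||
    decide (cev xTab w = mone.map fun v => scal v 3)

theorem words_scalar : words.all scalarWord = true := by decide +kernel

theorem ev_mem_center {w : List ℕ} (h : scalarWord w = true) : ev xg w ∈ Subgroup.center L9 := by
  simp only [scalarWord, Bool.or_eq_true, decide_eq_true_eq] at h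
  rcases h with (h | h) | h
  · have : ev xg w = 1 := Units.ext (by rw [coe_ev_xg, h, matOf_mone]; rfl)
    exact this ▸ one_mem _
  · refine (show ev xg w = scalarU (F4.toF 2) from Units.ext ?_) ▸ scalarU_mem_center _
    rw [coe_ev_xg, h, matOf_scal rfl (by decide), matOf_mone, coe_scalarU (by decide)]
  · refine (show ev xg w = scalarU (F4.toF 3) from Units.ext ?_) ▸ scalarU_mem_center _
    rw [coe_ev_xg, h, matOf_scal rfl (by decide), matOf_mone, coe_scalarU (by decide)]

/-- The quotient by the scalars. -/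
abbrev Q9 : Type := L9 ⧸ Subgroup.center L9

theorem exists_toQ : ∃ f : P →* Q9, ∀ s, f (g s) = (QuotientGroup.mk (xg s) : Q9) := by
  refine pres.exists_hom (fun s => (QuotientGroup.mk (xg s) : Q9)) (fun s => ?_) (fun w hw => ?_) fun s hs => ?_
  · rw [← QuotientGroup.mk_mul, xg_sq]; rfl
  · show ev (fun s => QuotientGroup.mk' (Subgroup.center L9) (xg s)) w = 1
    rw [← ev_map (QuotientGroup.mk' (Subgroup.center L9)) xg w]
    exact (QuotientGroup.eq_one_iff _).2 (ev_mem_center (List.all_eq_true.1 words_scalar w hw))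
  · have : xg s = 1 := Units.ext (by
      show matOf (xTab.getD s mone) = 1
      rw [List.getD_eq_getElem?_getD, List.getElem?_eq_none (show xTab.length ≤ s from hs)]
      exact matOf_mone)
    rw [this]; rfl

/-- The map to the projective group. -/
noncomputable def toQ : P →* Q9 := exists_toQ.choose

theorem toQ_g (s : ℕ) : toQ (g s) = (QuotientGroup.mk (xg s) : Q9) := exists_toQ.choose_spec s

theorem gen_not_scalar : ∃ z : X9, ∃ y : X9, y ≠ z ∧ (matOf (xTab.getD 0 mone) z y).code ≠ 0 := by decide +kernel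

theorem xg_zero_not_center : xg 0 ∉ Subgroup.center L9 := by
  intro h
  rw [GeneralLinearGroup.center_eq_range_scalar] at h
  obtain ⟨a, ha⟩ := h
  have e : matOf (xTab.getD 0 mone) = Matrix.diagonal fun _ => (a : F4) :=
    (congrArg (fun u : L9 => (u : Matrix X9 X9 F4)) ha).symm
  obtain ⟨z, y, hy, h⟩ := gen_not_scalar
  rw [e, Matrix.diagonal_apply_ne _ hy.symm] at h
  exact h rfl

theorem toQ_injective : Function.Injective toQ := by
  have := isSimple
  rw [← MonoidHom.ker_eq_bot_iff]
  refine ((MonoidHom.normal_ker toQ).eq_bot_or_eq_top).resolve_right fun h => ?_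
  have : g 0 ∈ toQ.ker := h ▸ Subgroup.mem_top _
  rw [MonoidHom.mem_ker, toQ_g] at this
  exact xg_zero_not_center ((QuotientGroup.eq_one_iff _).1 this)

/-- The group generated by the four involutions. -/
noncomputable abbrev K9 : Subgroup L9 := Subgroup.closure {x | ∃ s < 4, xg s = x}

theorem ev_xg_mem {w : List ℕ} (h : Act.lettersOk 4 [w] = true) : ev xg w ∈ K9 :=
  ev_mem w fun s hs => Subgroup.subset_closure ⟨s, Act.lt_of_lettersOk h (List.mem_singleton.2 rfl) s hs, rfl⟩

theorem scalWord_eq : cev xTab scalWord = mone.map fun v => scal v 3 := by decide +kernel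

theorem center_le_K9 : Subgroup.center L9 ≤ K9 := by
  have hv : scalarU F4.v = ev xg scalWord := Units.ext (by
    rw [coe_ev_xg, scalWord_eq, matOf_scal rfl (by decide), matOf_mone, coe_scalarU (by decide)]; rfl)
  intro z hz
  rw [GeneralLinearGroup.center_eq_range_scalar] at hz
  obtain ⟨a, rfl⟩ := hz
  have hmem : scalarU F4.v ∈ K9 := hv ▸ ev_xg_mem (by decide)
  have key : ∀ b : F4, b ≠ 0 → b = 1 ∨ b = F4.v ∨ b = F4.v * F4.v := by decide
  have ha : GeneralLinearGroup.scalar X9 a = scalarU (a : F4) := by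
    rw [scalarU, dif_neg a.ne_zero]; simp
  rw [ha]
  rcases key a a.ne_zero with e | e | e <;> rw [e]
  · have : scalarU (1 : F4) = 1 := Units.ext (by rw [coe_scalarU (by decide), one_smul]; rfl)
    exact this ▸ one_mem _
  · exact hmem
  · have : scalarU (F4.v * F4.v) = scalarU F4.v * scalarU F4.v := Units.ext (by
      rw [Units.val_mul, coe_scalarU (by decide), coe_scalarU (by decide), smul_mul_smul_comm, one_mul])
    exact this ▸ mul_mem hmem hmem

/-- A generator is a scalar times its word. -/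
noncomputable def chkG (i : ℕ) : Bool :=
  decide (gTab.getD i mone = (cev xTab (gWords.getD i ([], 1)).1).map fun v => scal v (gWords.getD i ([], 1)).2) &&
    (Nat.blt (gWords.getD i ([], 1)).2 4 && !Nat.beq (gWords.getD i ([], 1)).2 0) &&
    Act.lettersOk 4 [(gWords.getD i ([], 1)).1]

theorem chkG_all : (List.range 43).all chkG = true := by decide +kernel

theorem exists_gen_unit (i : ℕ) (hi : i < 43) : ∃ u ∈ K9, ((u : L9) : Matrix X9 X9 F4) = matOf (gTab.getD i mone) := by
  have h := List.all_eq_true.1 chkG_all i (List.mem_range.2 hi)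
  simp only [chkG, Bool.and_eq_true, decide_eq_true_eq, Bool.not_eq_true'] at h
  obtain ⟨⟨h1, h2, h3⟩, h4⟩ := h
  have hc : (gWords.getD i ([], 1)).2 < 4 := Nat.le_of_ble_eq_true h2
  have hne : F4.toF (gWords.getD i ([], 1)).2 ≠ 0 := by
    have h0 : (gWords.getD i ([], 1)).2 ≠ 0 := fun e => by rw [e] at h3; exact absurd h3 (by decide)
    generalize (gWords.getD i ([], 1)).2 = c at hc h0
    interval_cases c <;> first | (exact absurd rfl h0) | decide
  refine ⟨scalarU (F4.toF (gWords.getD i ([], 1)).2) * ev xg (gWords.getD i ([], 1)).1,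
    mul_mem (center_le_K9 (scalarU_mem_center _)) (ev_xg_mem h4), ?_⟩
  rw [h1, matOf_scal (length_cev _) hc, Units.val_mul, coe_scalarU hne, coe_ev_xg, Matrix.smul_mul, Matrix.one_mul]

theorem gTab_A : ∀ Z : X9, Cfsg.Spor.j3A F4 F4.w Z = matOf (gTab.getD (ix Z) mone) := by decide +kernel

theorem gTab_E : ∀ Z : X9, Cfsg.Spor.j3E F4 F4.w Z = matOf (gTab.getD (9 + ix Z) mone) := by decide +kernel

theorem gTab_D : ∀ Z : X9, Cfsg.Spor.j3D F4 F4.w Z = matOf (gTab.getD (18 + ix Z) mone) := by decide +kernel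

theorem gTab_B : ∀ Z : X9, Z ≠ 0 → Cfsg.Spor.j3B F4 Z = matOf (gTab.getD (26 + ix Z) mone) := by decide +kernel

theorem gTab_C : ∀ Z : X9, Z ≠ 0 → Cfsg.Spor.j3C F4 Z = matOf (gTab.getD (34 + ix Z) mone) := by decide +kernel

theorem ix_pos : ∀ Z : X9, Z ≠ 0 → 0 < ix Z := by decide

theorem ix_inv : ∀ i < 9, ∃ Z : X9, ix Z = i ∧ (0 < i → Z ≠ 0) := by decide

theorem mem_gens_iff (M : Matrix X9 X9 F4) :
    M ∈ Cfsg.Spor.j3Gens F4 F4.w ↔ ∃ i < 43, M = matOf (gTab.getD i mone) := by
  constructor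
  · rintro ((((⟨Z, rfl⟩ | ⟨Z, rfl⟩) | ⟨Z, rfl⟩) | ⟨Z, hZ, rfl⟩) | ⟨Z, hZ, rfl⟩) <;>
      have := ix_lt Z
    · exact ⟨_, by omega, gTab_A Z⟩
    · exact ⟨_, by omega, gTab_E Z⟩
    · exact ⟨_, by omega, gTab_D Z⟩
    · exact ⟨_, by omega, gTab_B Z hZ⟩
    · exact ⟨_, by omega, gTab_C Z hZ⟩
  · rintro ⟨i, hi, rfl⟩
    by_cases h1 : i < 9
    · obtain ⟨Z, rfl, -⟩ := ix_inv i h1
      exact .inl (.inl (.inl (.inl ⟨Z, gTab_A Z⟩)))
    by_cases h2 : i < 18
    · obtain ⟨Z, hZ, -⟩ := ix_inv (i - 9) (by omega)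
      obtain rfl : i = 9 + ix Z := by omega
      exact .inl (.inl (.inl (.inr ⟨Z, gTab_E Z⟩)))
    by_cases h3 : i < 27
    · obtain ⟨Z, hZ, -⟩ := ix_inv (i - 18) (by omega)
      obtain rfl : i = 18 + ix Z := by omega
      exact .inl (.inl (.inr ⟨Z, gTab_D Z⟩))
    by_cases h4 : i < 35
    · obtain ⟨Z, hZ, hne⟩ := ix_inv (i - 26) (by omega)
      obtain rfl : i = 26 + ix Z := by omega
      exact .inl (.inr ⟨Z, hne (by omega), (gTab_B Z (hne (by omega))).symm⟩)
    · obtain ⟨Z, hZ, hne⟩ := ix_inv (i - 34) (by omega)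
      obtain rfl : i = 34 + ix Z := by omega
      exact .inr ⟨Z, hne (by omega), (gTab_C Z (hne (by omega))).symm⟩

/-- The unit of a generator. -/
noncomputable def gu (i : ℕ) : L9 :=
  if h : i < 43 then (exists_gen_unit i h).choose else 1

theorem coe_gu (i : ℕ) : ((gu i : L9) : Matrix X9 X9 F4) = matOf (gTab.getD i mone) := by
  rw [gu]
  split
  next h => exact (exists_gen_unit i h).choose_spec.2
  next h =>
    rw [List.getD_eq_getElem?_getD, List.getElem?_eq_none (show gTab.length ≤ i by simpa [gTab] using h)]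
    exact matOf_mone.symm

theorem xWords_eq : ∀ s < 4, cev gTab (xWords.getD s []) = xTab.getD s mone := by decide +kernel

theorem xWords_letters : Act.lettersOk 43 xWords = true := by decide +kernel

theorem threeJ3_eq : Cfsg.Spor.threeJ3 F4 F4.w = K9 := by
  apply le_antisymm
  · rw [Cfsg.Spor.threeJ3, Subgroup.closure_le]
    intro u hu
    obtain ⟨i, hi, h⟩ := (mem_gens_iff _).1 hu
    obtain ⟨u', hu', h'⟩ := exists_gen_unit i hi
    exact (show u = u' from Units.ext (h.trans h'.symm)) ▸ hu'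
  · rw [Subgroup.closure_le]
    rintro _ ⟨s, hs, rfl⟩
    have e : xg s = ev gu (xWords.getD s []) := Units.ext (by
      rw [ev_eq_prod]
      refine Eq.trans ?_ (coe_ev (G := L9) gTab_cols (Units.coeHom _) gu coe_gu (xWords.getD s [])).symm
      rw [xWords_eq s hs]; rfl)
    rw [e]
    refine ev_mem _ fun i hi => Subgroup.subset_closure ?_
    have hlt : i < 43 := Act.lt_of_lettersOk xWords_letters (w := xWords.getD s []) (by
      rw [List.getD_eq_getElem _ _ (show s < xWords.length from hs)]; exact List.getElem_mem _) i hi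
    show ((gu i : L9) : Matrix X9 X9 F4) ∈ Cfsg.Spor.j3Gens F4 F4.w
    exact (mem_gens_iff _).2 ⟨i, hlt, coe_gu i⟩

end Cfsg.Agent.Spor.Cos.J3
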