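import Cfsg.Agent.Lib.Spor.Cos.J3.MidPart0

/-! A checked coset enumeration. -/

set_option autoImplicit false
set_option maxRecDepth 100000
set_option maxHeartbeats 4000000

namespace Cfsg.Agent.Spor.Cos.J3

theorem mid_def0 : allBlock mid.chkDef 528 512 0 = true := by decide +kernel

theorem mid_def1 : allBlock mid.chkDef 528 512 1 = true := by decide +kernel

theorem mid_defs : ∀ i, i + 1 < mid.M → mid.chkDef i = true := by
  intro i hi
  change i + 1 < 529 at hi
  refine of_allBlock (n := 528) (size := 512) (by decide) (fun j hj => ?_) (by omega)
  have hj' : j < 2 := by omega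
  interval_cases j
  · exact mid_def0
  · exact mid_def1

theorem mid_facts : ∀ i, mid.M ≤ i + 1 → i < mid.nF → ∃ J, mid.chkFact i J = true := by
  exact mid.facts_of_covers (mid.covers_of_part _ _ _ mid_part0) rfl rfl

theorem mid_final0 : allBlock mid.chkFinal 720 512 0 = true := by decide +kernel

theorem mid_final1 : allBlock mid.chkFinal 720 512 1 = true := by decide +kernel

theorem mid_checks : mid.Checks where
  pos := by decide +kernel
  defs := mid_defs
  facts := mid_facts
  final := by
    intro k hk
    change k < 240 * 3 at hk
    refine of_allBlock (n := 720) (size := 512) (by decide) (fun j hj => ?_) (by omega)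
    have hj' : j < 2 := by omega
    interval_cases j
    · exact mid_final0
    · exact mid_final1

theorem mid_derived : mid.rels.all (derivedOk mid.n midBase) = true := by decide +kernel

end Cfsg.Agent.Spor.Cos.J3
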