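import Cfsg.Agent.Lib.Spor.Cos.J3.TopPart0

/-! A checked coset enumeration. -/

set_option autoImplicit false
set_option maxRecDepth 100000
set_option maxHeartbeats 4000000

namespace Cfsg.Agent.Spor.Cos.J3

theorem top_def0 : allBlock top.chkDef 6155 512 0 = true := by decide +kernel

theorem top_def1 : allBlock top.chkDef 6155 512 1 = true := by decide +kernel

theorem top_def2 : allBlock top.chkDef 6155 512 2 = true := by decide +kernel

theorem top_def3 : allBlock top.chkDef 6155 512 3 = true := by decide +kernel

theorem top_def4 : allBlock top.chkDef 6155 512 4 = true := by decide +kernel

theorem top_def5 : allBlock top.chkDef 6155 512 5 = true := by decide +kernel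

theorem top_def6 : allBlock top.chkDef 6155 512 6 = true := by decide +kernel

theorem top_def7 : allBlock top.chkDef 6155 512 7 = true := by decide +kernel

theorem top_def8 : allBlock top.chkDef 6155 512 8 = true := by decide +kernel

theorem top_def9 : allBlock top.chkDef 6155 512 9 = true := by decide +kernel

theorem top_def10 : allBlock top.chkDef 6155 512 10 = true := by decide +kernel

theorem top_def11 : allBlock top.chkDef 6155 512 11 = true := by decide +kernel

theorem top_def12 : allBlock top.chkDef 6155 512 12 = true := by decide +kernel

theorem top_defs : ∀ i, i + 1 < top.M → top.chkDef i = true := by
  intro i hi
  change i + 1 < 6156 at hi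
  refine of_allBlock (n := 6155) (size := 512) (by decide) (fun j hj => ?_) (by omega)
  have hj' : j < 13 := by omega
  interval_cases j
  · exact top_def0
  · exact top_def1
  · exact top_def2
  · exact top_def3
  · exact top_def4
  · exact top_def5
  · exact top_def6
  · exact top_def7
  · exact top_def8
  · exact top_def9
  · exact top_def10
  · exact top_def11
  · exact top_def12

theorem top_facts : ∀ i, top.M ≤ i + 1 → i < top.nF → ∃ J, top.chkFact i J = true := by
  exact top.facts_of_covers (Log.Covers.trans top (Log.Covers.trans top (Log.Covers.trans top (top.covers_of_part _ _ _ top_part0) (top.covers_of_part _ _ _ top_part1)) (Log.Covers.trans top (top.covers_of_part _ _ _ top_part2) (top.covers_of_part _ _ _ top_part3))) (Log.Covers.trans top (Log.Covers.trans top (top.covers_of_part _ _ _ top_part4) (top.covers_of_part _ _ _ top_part5)) (Log.Covers.trans top (top.covers_of_part _ _ _ top_part6) (Log.Covers.trans top (top.covers_of_part _ _ _ top_part7) (top.covers_of_part _ _ _ top_part8))))) rfl rfl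

theorem top_final0 : allBlock top.chkFinal 24624 512 0 = true := by decide +kernel

theorem top_final1 : allBlock top.chkFinal 24624 512 1 = true := by decide +kernel

theorem top_final2 : allBlock top.chkFinal 24624 512 2 = true := by decide +kernel

theorem top_final3 : allBlock top.chkFinal 24624 512 3 = true := by decide +kernel

theorem top_final4 : allBlock top.chkFinal 24624 512 4 = true := by decide +kernel

theorem top_final5 : allBlock top.chkFinal 24624 512 5 = true := by decide +kernel

theorem top_final6 : allBlock top.chkFinal 24624 512 6 = true := by decide +kernel

theorem top_final7 : allBlock top.chkFinal 24624 512 7 = true := by decide +kernel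

theorem top_final8 : allBlock top.chkFinal 24624 512 8 = true := by decide +kernel

theorem top_final9 : allBlock top.chkFinal 24624 512 9 = true := by decide +kernel

theorem top_final10 : allBlock top.chkFinal 24624 512 10 = true := by decide +kernel

theorem top_final11 : allBlock top.chkFinal 24624 512 11 = true := by decide +kernel

theorem top_final12 : allBlock top.chkFinal 24624 512 12 = true := by decide +kernel

theorem top_final13 : allBlock top.chkFinal 24624 512 13 = true := by decide +kernel

theorem top_final14 : allBlock top.chkFinal 24624 512 14 = true := by decide +kernel

theorem top_final15 : allBlock top.chkFinal 24624 512 15 = true := by decide +kernel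

theorem top_final16 : allBlock top.chkFinal 24624 512 16 = true := by decide +kernel

theorem top_final17 : allBlock top.chkFinal 24624 512 17 = true := by decide +kernel

theorem top_final18 : allBlock top.chkFinal 24624 512 18 = true := by decide +kernel

theorem top_final19 : allBlock top.chkFinal 24624 512 19 = true := by decide +kernel

theorem top_final20 : allBlock top.chkFinal 24624 512 20 = true := by decide +kernel

theorem top_final21 : allBlock top.chkFinal 24624 512 21 = true := by decide +kernel

theorem top_final22 : allBlock top.chkFinal 24624 512 22 = true := by decide +kernel

theorem top_final23 : allBlock top.chkFinal 24624 512 23 = true := by decide +kernel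

theorem top_final24 : allBlock top.chkFinal 24624 512 24 = true := by decide +kernel

theorem top_final25 : allBlock top.chkFinal 24624 512 25 = true := by decide +kernel

theorem top_final26 : allBlock top.chkFinal 24624 512 26 = true := by decide +kernel

theorem top_final27 : allBlock top.chkFinal 24624 512 27 = true := by decide +kernel

theorem top_final28 : allBlock top.chkFinal 24624 512 28 = true := by decide +kernel

theorem top_final29 : allBlock top.chkFinal 24624 512 29 = true := by decide +kernel

theorem top_final30 : allBlock top.chkFinal 24624 512 30 = true := by decide +kernel

theorem top_final31 : allBlock top.chkFinal 24624 512 31 = true := by decide +kernel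

theorem top_final32 : allBlock top.chkFinal 24624 512 32 = true := by decide +kernel

theorem top_final33 : allBlock top.chkFinal 24624 512 33 = true := by decide +kernel

theorem top_final34 : allBlock top.chkFinal 24624 512 34 = true := by decide +kernel

theorem top_final35 : allBlock top.chkFinal 24624 512 35 = true := by decide +kernel

theorem top_final36 : allBlock top.chkFinal 24624 512 36 = true := by decide +kernel

theorem top_final37 : allBlock top.chkFinal 24624 512 37 = true := by decide +kernel

theorem top_final38 : allBlock top.chkFinal 24624 512 38 = true := by decide +kernel

theorem top_final39 : allBlock top.chkFinal 24624 512 39 = true := by decide +kernel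

theorem top_final40 : allBlock top.chkFinal 24624 512 40 = true := by decide +kernel

theorem top_final41 : allBlock top.chkFinal 24624 512 41 = true := by decide +kernel

theorem top_final42 : allBlock top.chkFinal 24624 512 42 = true := by decide +kernel

theorem top_final43 : allBlock top.chkFinal 24624 512 43 = true := by decide +kernel

theorem top_final44 : allBlock top.chkFinal 24624 512 44 = true := by decide +kernel

theorem top_final45 : allBlock top.chkFinal 24624 512 45 = true := by decide +kernel

theorem top_final46 : allBlock top.chkFinal 24624 512 46 = true := by decide +kernel

theorem top_final47 : allBlock top.chkFinal 24624 512 47 = true := by decide +kernel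

theorem top_final48 : allBlock top.chkFinal 24624 512 48 = true := by decide +kernel

theorem top_checks : top.Checks where
  pos := by decide +kernel
  defs := top_defs
  facts := top_facts
  final := by
    intro k hk
    change k < 6156 * 4 at hk
    refine of_allBlock (n := 24624) (size := 512) (by decide) (fun j hj => ?_) (by omega)
    have hj' : j < 49 := by omega
    interval_cases j
    · exact top_final0
    · exact top_final1
    · exact top_final2
    · exact top_final3
    · exact top_final4
    · exact top_final5
    · exact top_final6
    · exact top_final7
    · exact top_final8
    · exact top_final9
    · exact top_final10
    · exact top_final11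
    · exact top_final12
    · exact top_final13
    · exact top_final14
    · exact top_final15
    · exact top_final16
    · exact top_final17
    · exact top_final18
    · exact top_final19
    · exact top_final20
    · exact top_final21
    · exact top_final22
    · exact top_final23
    · exact top_final24
    · exact top_final25
    · exact top_final26
    · exact top_final27
    · exact top_final28
    · exact top_final29
    · exact top_final30
    · exact top_final31
    · exact top_final32
    · exact top_final33
    · exact top_final34
    · exact top_final35
    · exact top_final36
    · exact top_final37
    · exact top_final38
    · exact top_final39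
    · exact top_final40
    · exact top_final41
    · exact top_final42
    · exact top_final43
    · exact top_final44
    · exact top_final45
    · exact top_final46
    · exact top_final47
    · exact top_final48

theorem top_derived : top.rels.all (derivedOk top.n topBase) = true := by decide +kernel

end Cfsg.Agent.Spor.Cos.J3
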