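import Cfsg.Agent.Lib.Spor.Cos.J3.Words
import Cfsg.Agent.Lib.Spor.Cos.Cox
import Cfsg.Agent.Lib.Spor.Cos.Orb
import Cfsg.Agent.Lib.Spor.Cos.J3.DihCert
import Cfsg.Agent.Lib.Spor.Cos.J3.MidCert
import Cfsg.Agent.Lib.Spor.Cos.J3.TopCert

/-! Data and checks for a presented sporadic group. -/

set_option autoImplicit false
set_option maxRecDepth 100000
set_option maxHeartbeats 4000000

open Cfsg.Spor

namespace Cfsg.Agent.Spor.Cos.J3

/-- The generators. -/
inductive Gen | a | b | c | d
deriving DecidableEq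

/-- The orders of the products of two generators. -/
def edges : List (Gen × ℕ × Gen) := [(.a, 17, .b), (.a, 4, .c), (.a, 8, .d), (.b, 4, .c), (.b, 8, .d), (.c, 8, .d)]

/-- A product of generators as an element of the free group. -/
def fw (w : List Gen) : FreeGroup Gen := FreeGroup.mk (w.map fun x => (x, true))

/-- The further relators. -/
def extra : List (FreeGroup Gen) := [fw [.a, .b, .c, .a, .b, .c, .a, .b, .c, .a, .b, .c],
  fw [.a, .b, .a, .b, .a, .b, .c, .b, .a, .b, .a, .b, .a, .b, .c, .b],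
  fw [.a, .b, .c, .a, .b, .c, .a, .b, .c, .a, .c, .b, .c, .b, .c, .b],
  fw [.a, .b, .c, .b, .a, .c, .a, .b, .c, .b, .a, .c, .a, .b, .c, .b, .a, .c],
  fw [.a, .b, .a, .c, .a, .c, .b, .a, .c, .a, .c, .b, .a, .c, .a, .c, .b, .a, .c, .b, .c],
  fw [.b, .d, .c, .d],
  fw [.d, .a, .c, .b, .d, .a, .d, .b, .c, .a, .d, .b, .c, .a, .c, .b],
  fw [.d, .a, .d, .a, .c, .b, .d, .a, .d, .a, .d, .c, .b, .a, .b, .c, .a, .c, .b, .c, .b],
  fw [.d, .a, .b, .c, .a, .d, .a, .d, .a, .c, .b, .a, .d, .a, .c, .b, .a, .d, .a, .b, .c, .a],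
  fw [.d, .a, .b, .c, .b, .a, .c, .b, .a, .b, .a, .d, .b, .c, .a, .b, .c, .b, .a, .c, .b, .a, .b, .a],
  fw [.d, .a, .d, .a, .d, .a, .c, .a, .d, .a, .c, .a, .d, .a, .d, .a, .d, .b, .a, .c, .b, .c, .a, .b],
  fw [.d, .a, .b, .a, .c, .d, .a, .b, .a, .c, .d, .a, .b, .a, .d, .b, .a, .b, .a, .d, .b, .a, .b, .a, .c]]

/-- The presented group. -/
abbrev P : Type := Cfsg.Spor.CoxPresented Gen edges extra

/-- The generators in order. -/
def alph : List Gen := [.a, .b, .c, .d]

/-- The place of a generator. -/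
def num : Gen → ℕ
  | .a => 0
  | .b => 1
  | .c => 2
  | .d => 3

theorem pres : Pres edges extra alph num words where
  index := by intro a; cases a <;> rfl
  node := by intro a; cases a <;> decide
  order := rfl
  fromRels := by decide +kernel
  toBase := by decide +kernel

/-- The generators by number. -/
noncomputable def g : ℕ → P := gen edges extra alph

theorem g_sq (s : ℕ) : g s * g s = 1 := pres.inv s

theorem g_words : ∀ w ∈ words, ev g w = 1 := fun _ hw => pres.ev_base hw

theorem g_gen : Subgroup.closure {x | ∃ s < 4, g s = x} = ⊤ := pres.closure_gen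

theorem upper : Finite P ∧ Nat.card P ≤ 50232960 := by
  have h0 : Bound g [] 1 := Bound.nil
  have h1 : Bound g [0, 1] 34 :=
    Bound.step (d := 4) g_sq h0 dih dih_checks rfl (by decide +kernel)
      (hbase_of g_sq g_words (n := 4) (by decide +kernel)) dih_derived
  have h2 : Bound g [0, 1, 2] 8160 :=
    Bound.step (d := 4) g_sq h1 mid mid_checks rfl (by decide +kernel)
      (hbase_of g_sq g_words (n := 4) (by decide +kernel)) mid_derived
  have h3 : Bound g [0, 1, 2, 3] 50232960 :=
    Bound.step (d := 4) g_sq h2 top top_checks rfl (by decide +kernel)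
      (hbase_of g_sq g_words (n := 4) (by decide +kernel)) top_derived
  exact Bound.top (n := 4) h3 g_gen

theorem finite : Finite P := upper.1

end Cfsg.Agent.Spor.Cos.J3
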