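import Cfsg.Agent.Lib.Spor.Cos.J3.Sa1Ent0

/-! Data and checks for a presented sporadic group. -/

set_option autoImplicit false
set_option maxRecDepth 100000
set_option maxHeartbeats 4000000

namespace Cfsg.Agent.Spor.Cos.J3

theorem sa1_ents : ∀ i < 2040, (sa1.chkEnt actA sa1W 5) i = true :=
  of_blocks (size := 512) (b := 4) (by decide) (by decide) fun j hj => by
    interval_cases j
    · exact sa1_ents0
    · exact sa1_ents1
    · exact sa1_ents2
    · exact sa1_ents3

end Cfsg.Agent.Spor.Cos.J3
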