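import Cfsg.Agent.Lib.Spor.Cos.J3.Sa5Data
import Cfsg.Agent.Lib.Spor.Cos.J3.ActAData

/-! Data and checks for a presented sporadic group. -/

set_option autoImplicit false
set_option maxRecDepth 100000
set_option maxHeartbeats 4000000

namespace Cfsg.Agent.Spor.Cos.J3

theorem sa5_closed0 : allBlock (sa5.chkClosed actA sa5W) 120 512 0 = true := by decide +kernel


end Cfsg.Agent.Spor.Cos.J3
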