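import Cfsg.Agent.Lib.Spor.Cos.J3.Sa0Data
import Cfsg.Agent.Lib.Spor.Cos.J3.Sa1Data
import Cfsg.Agent.Lib.Spor.Cos.J3.Sa2Data
import Cfsg.Agent.Lib.Spor.Cos.J3.Sa3Data
import Cfsg.Agent.Lib.Spor.Cos.J3.Sa4Data
import Cfsg.Agent.Lib.Spor.Cos.J3.Sa5Data
import Cfsg.Agent.Lib.Spor.Cos.J3.Sa6Data

/-! Data and checks for a presented sporadic group. -/

set_option autoImplicit false
set_option maxRecDepth 100000
set_option maxHeartbeats 4000000

namespace Cfsg.Agent.Spor.Cos.J3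

/-- The suborbits. -/
def saList : List (Orb × ℕ) := [(sa0, 1), (sa1, 5), (sa2, 15), (sa3, 76), (sa4, 263), (sa5, 580), (sa6, 2255)]

end Cfsg.Agent.Spor.Cos.J3
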