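import Cfsg.Agent.Lib.Spor.Cos.J3.Cover
import Cfsg.Prelude.Def_Classical

/-!
The triple cover inside the special unitary group of dimension nine.
-/

set_option autoImplicit false
set_option maxRecDepth 100000
set_option maxHeartbeats 1000000

open Matrix

namespace Cfsg.Agent.Spor.Cos.J3

/-- Squaring. -/
def sqHom : F4 →+* F4 where
  toFun x := x ^ 2
  map_one' := one_pow 2
  map_mul' x y := mul_pow x y 2
  map_zero' := by decide
  map_add' := by decide

theorem xMat_unitary : ∀ s < 4, (matOf (xTab.getD s mone))ᵀ * (matOf (xTab.getD s mone)).map sqHom = 1 := by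
  decide +kernel

theorem unitary_det {u : L9} (hu : u ∈ K9) :
    (u : Matrix X9 X9 F4)ᵀ * (u : Matrix X9 X9 F4).map sqHom = 1 ∧ (u : Matrix X9 X9 F4).det = 1 := by
  induction hu using Subgroup.closure_induction'' with
  | mem x hx =>
    obtain ⟨s, hs, rfl⟩ := hx
    refine ⟨xMat_unitary s hs, ?_⟩
    have h := congrArg Matrix.det (xMat_sq s)
    rw [Matrix.det_mul, Matrix.det_one] at h
    exact (show ∀ x : F4, x * x = 1 → x = 1 by decide) _ h
  | inv_mem x hx =>
    obtain ⟨s, hs, rfl⟩ := hx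
    rw [show (xg s)⁻¹ = xg s from inv_eq_of_mul_eq_one_left (xg_sq s)]
    refine ⟨xMat_unitary s hs, ?_⟩
    have h := congrArg Matrix.det (xMat_sq s)
    rw [Matrix.det_mul, Matrix.det_one] at h
    exact (show ∀ x : F4, x * x = 1 → x = 1 by decide) _ h
  | one => simp [Matrix.map_one]
  | mul x y _ _ hx hy =>
    refine ⟨?_, by rw [Units.val_mul, Matrix.det_mul, hx.2, hy.2, one_mul]⟩
    rw [Units.val_mul, Matrix.transpose_mul, Matrix.map_mul, Matrix.mul_assoc, ← Matrix.mul_assoc (x : Matrix X9 X9 F4)ᵀ,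
      hx.1, Matrix.one_mul, hy.1]

theorem mem_K9 (u : U9) : (u : L9) ∈ K9 := threeJ3_eq ▸ u.2

/-- The matrix with indices 0 to 8. -/
noncomputable def finMat (u : U9) : Matrix (Fin 9) (Fin 9) F4 :=
  Matrix.reindexAlgEquiv F4 F4 ixEquiv ((u : L9) : Matrix X9 X9 F4)

/-- The map to the special linear group. -/
noncomputable def toSL : U9 →* Matrix.SpecialLinearGroup (Fin 9) F4 where
  toFun u := ⟨finMat u, by rw [finMat, Matrix.det_reindexAlgEquiv]; exact (unitary_det (mem_K9 u)).2⟩
  map_one' := Subtype.ext (by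
    show Matrix.reindexAlgEquiv F4 F4 ixEquiv (((1 : U9) : L9) : Matrix X9 X9 F4) = 1
    simp)
  map_mul' u v := Subtype.ext (by
    show Matrix.reindexAlgEquiv F4 F4 ixEquiv (((u * v : U9) : L9) : Matrix X9 X9 F4) = finMat u * finMat v
    rw [Subgroup.coe_mul, Units.val_mul, map_mul]; rfl)

theorem toSL_mem (u : U9) : toSL u ∈ Cfsg.SU 9 F4 2 := by
  intro a b
  show Cfsg.hermForm 9 F4 2 (finMat u *ᵥ a) (finMat u *ᵥ b) = Cfsg.hermForm 9 F4 2 a b
  have hM : (finMat u)ᵀ * (finMat u).map sqHom = 1 := by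
    have h := congrArg (Matrix.reindexAlgEquiv F4 F4 ixEquiv) (unitary_det (mem_K9 u)).1
    rw [map_mul, map_one] at h
    exact h
  have hform : ∀ x y : Fin 9 → F4, Cfsg.hermForm 9 F4 2 x y = x ⬝ᵥ fun i => sqHom (y i) := fun x y => rfl
  rw [hform, hform]
  have e : (fun i => sqHom ((finMat u *ᵥ b) i)) = (finMat u).map sqHom *ᵥ fun i => sqHom (b i) := by
    funext i
    exact RingHom.map_mulVec sqHom (finMat u) b i
  rw [e, dotProduct_comm, dotProduct_mulVec, dotProduct_comm, ← Matrix.mulVec_transpose, Matrix.mulVec_mulVec,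
    hM, Matrix.one_mulVec]

/-- The map to the special unitary group. -/
noncomputable def toSU : U9 →* Cfsg.SU 9 F4 2 := toSL.codRestrict _ toSL_mem

theorem toSU_injective : Function.Injective toSU := by
  intro u v h
  have h' : finMat u = finMat v := congrArg (fun x : Cfsg.SU 9 F4 2 => (x.1.1 : Matrix (Fin 9) (Fin 9) F4)) h
  exact Subtype.ext (Units.ext ((Matrix.reindexAlgEquiv F4 F4 ixEquiv).injective h'))

/-- The triple cover as a subgroup of the special unitary group. -/
noncomputable def suJ3 : Subgroup (Cfsg.SU 9 F4 2) := toSU.range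

theorem card_center_suJ3 : Nat.card (Subgroup.center suJ3) = 3 :=
  (Nat.card_congr (Subgroup.centerCongr (MonoidHom.ofInjective toSU_injective)).toEquiv).symm.trans card_center_U9

theorem isJ3_suJ3 : Cfsg.IsJ3 (suJ3 ⧸ Subgroup.center suJ3) := by
  let e : U9 ≃* suJ3 := MonoidHom.ofInjective toSU_injective
  have hmap : (Subgroup.center U9).map e.toMonoidHom = Subgroup.center suJ3 := by
    ext x
    simp only [Subgroup.mem_map, MulEquiv.coe_toMonoidHom, Subgroup.mem_center_iff]
    constructor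
    · rintro ⟨u, hu, rfl⟩ y
      obtain ⟨v, rfl⟩ := e.surjective y
      rw [← map_mul, ← map_mul, hu v]
    · intro hx
      refine ⟨e.symm x, fun v => e.injective ?_, e.apply_symm_apply x⟩
      rw [map_mul, map_mul, e.apply_symm_apply]
      exact hx (e v)
  let q : Cfsg.Spor.J3 F4 F4.w ≃* (suJ3 ⧸ Subgroup.center suJ3) := QuotientGroup.congr _ _ e hmap
  have := isSimple_J3
  have : Nontrivial (suJ3 ⧸ Subgroup.center suJ3) := q.toEquiv.symm.nontrivial
  exact ⟨IsSimpleGroup.isSimpleGroup_of_surjective q.toMonoidHom q.surjective,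
    (Nat.card_congr q.toEquiv).symm.trans card_J3⟩

end Cfsg.Agent.Spor.Cos.J3
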